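import Groth.Agent.LimDesc62.Basic
import Groth.Agent.ConstrTop58.Basic
import Groth.Agent.LimTop61.Descent
import Mathlib.AlgebraicGeometry.PullbackCarrier
import Mathlib.AlgebraicGeometry.Morphisms.UniversallyInjective
import Mathlib.AlgebraicGeometry.Morphisms.IsIso
import Mathlib.AlgebraicGeometry.Morphisms.Separated

/-! Descent of surjectivity, universal injectivity, isomorphisms and monomorphisms. -/

set_option autoImplicit false
universe u

open CategoryTheory CategoryTheory.Limits AlgebraicGeometry TopologicalSpace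

namespace Groth.Agent.LimDesc62

variable {I : Type u} [SmallCategory I] [IsCofiltered I] (D : I ⥤ Scheme.{u}) (c : Cone D)
  (hc : IsLimit c) [∀ (i j : I) (f : i ⟶ j), IsAffineHom (D.map f)]

include hc in
theorem exists_preimage_subset {i : I} {U V : (D.obj i).Opens} (hU : IsCompact (U : Set (D.obj i)))
    (h : c.π.app i ⁻¹ᵁ U ≤ c.π.app i ⁻¹ᵁ V) :
    ∃ (j : I) (φ : j ⟶ i), D.map φ ⁻¹ᵁ U ≤ D.map φ ⁻¹ᵁ V :=
  exists_map_preimage_le_map_preimage D c hc hU h

include hc in
theorem exists_preimage_constructible_eq_empty {i : I} [CompactSpace (D.obj i)]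
    [QuasiSeparatedSpace (D.obj i)] {E : Set (D.obj i)} (hE : Topology.IsConstructible E)
    (h : c.π.app i ⁻¹' E = ∅) : ∃ (j : I) (φ : j ⟶ i), D.map φ ⁻¹' E = ∅ := by
  obtain ⟨κ, _, U, V, hU, hV, rfl⟩ := ConstrTop58.exists_sdiff_normal_form hE
  have hk : ∀ k, ∃ (j : I) (φ : j ⟶ i), D.map φ ⁻¹ᵁ ⟨U k, (hU k).1⟩ ≤ D.map φ ⁻¹ᵁ ⟨V k, (hV k).1⟩ := by
    intro k
    refine exists_preimage_subset D c hc (U := ⟨U k, (hU k).1⟩) (V := ⟨V k, (hV k).1⟩) (hU k).2.isCompact ?_
    intro x hx
    by_contra hxV
    exact (Set.eq_empty_iff_forall_notMem.mp h x) (Set.mem_iUnion.mpr ⟨k, hx, hxV⟩)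
  choose j φ hj using hk
  obtain ⟨m, ψ, χ, hχ⟩ := DescProp.exists_common φ
  refine ⟨m, ψ, Set.eq_empty_iff_forall_notMem.mpr fun x hx => ?_⟩
  obtain ⟨k, hxU, hxV⟩ := Set.mem_iUnion.mp hx
  rw [← hχ k, D.map_comp, Scheme.Hom.comp_apply] at hxU hxV
  exact hxV (hj k (show D.map (χ k) x ∈ D.map (φ k) ⁻¹ᵁ ⟨U k, (hU k).1⟩ from hxU))

theorem descProp_surjective :
    DescProp @LocallyOfFinitePresentation @Surjective := by
  constructor
  intro I _ _ D c hc _ i _ _ T a _ _ (ha : LocallyOfFinitePresentation a) (h : Surjective _)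
  have hE : Topology.IsConstructible (Set.range a)ᶜ := by
    refine Topology.IsConstructible.compl ?_
    rw [← Set.image_univ]
    exact a.isConstructible_image Topology.IsConstructible.univ
  obtain ⟨j, φ, hj⟩ := exists_preimage_constructible_eq_empty D c hc hE (by
    have := h.surj.range_eq
    rw [Scheme.Pullback.range_snd] at this
    rw [Set.preimage_compl, this, Set.compl_univ])
  refine ⟨j, φ, ⟨Set.range_eq_univ.mp ?_⟩⟩
  rw [Scheme.Pullback.range_snd]
  rwa [Set.preimage_compl, Set.compl_empty_iff] at hj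

theorem descProp_isIso :
    DescProp @LocallyOfFinitePresentation (MorphismProperty.isomorphisms Scheme.{u}) := by
  constructor
  intro I _ _ D c hc _ i _ _ T a _ _ (ha : LocallyOfFinitePresentation a) (h : IsIso _)
  have : IsConnected (Over i) := CategoryTheory.isConnected_of_hasTerminal (Over i)
  let D₁ := Over.forget i ⋙ D
  let c₁ : Cone D₁ := c.whisker (Over.forget i)
  have hc₁ : IsLimit c₁ := (Functor.Initial.isLimitWhiskerEquiv (Over.forget i) c).symm hc
  let t : D₁ ⟶ (Functor.const (Over i)).obj (D.obj i) :=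
    { app := fun j => D.map j.hom
      naturality := fun j k f => by
        dsimp [D₁]
        rw [← D.map_comp, Over.w f, Category.comp_id] }
  have : ∀ {j k : Over i} (f : j ⟶ k), IsAffineHom (D₁.map f) := fun f => ‹∀ (i j : I) (f : i ⟶ j), IsAffineHom (D.map f)› _ _ f.left
  have : ∀ j : Over i, CompactSpace (D₁.obj j) := fun j => LimTop61.compactSpace_of_map D j.hom
  have : ∀ j : Over i, QuasiSeparatedSpace (D₁.obj j) := fun j => LimTop61.quasiSeparatedSpace_of_map D j.hom
  let s : c.pt ⟶ T := inv (pullback.snd a (c.π.app i)) ≫ pullback.fst a (c.π.app i)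
  have hs : s ≫ a = c.π.app i := by simp [s, pullback.condition]
  obtain ⟨j, g, hg', hgs⟩ : ∃ (j : Over i) (g : D.obj j.left ⟶ T),
      g ≫ a = D.map j.hom ∧ c.π.app j.left ≫ g = s := by
    obtain ⟨j, g, h1, h2⟩ := Scheme.exists_π_app_comp_eq_of_locallyOfFinitePresentation D₁ t a c₁ hc₁ s (by
      ext j
      show c.π.app j.left ≫ D.map j.hom = s ≫ a
      rw [hs, c.w])
    exact ⟨j, g, h2, h1⟩
  -- the section at stage `j` and its composite with the projection agree later
  let σ : D.obj j.left ⟶ pullback a (D.map j.hom) := pullback.lift g (𝟙 _) (by rw [Category.id_comp]; exact hg')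
  let b₁ := pullback.fst a (D.map j.hom)
  let b₂ := pullback.snd a (D.map j.hom) ≫ g
  let D₂ := LimTop61.bcDiagram D a
  let c₂ := LimTop61.bcCone D c a (pullback.fst a (c.π.app i)) (pullback.snd a (c.π.app i)) pullback.condition
  have hc₂ : IsLimit c₂ := LimTop61.isLimitBcCone D c hc a _ _ (IsPullback.of_hasPullback _ _)
  let t₂ : D₂ ⟶ (Functor.const (Over i)).obj (D.obj i) :=
    { app := fun k => pullback.fst a (D.map k.hom) ≫ a
      naturality := fun k l f => by
        show pullback.lift _ _ _ ≫ pullback.fst a (D.map l.hom) ≫ a = (pullback.fst a (D.map k.hom) ≫ a) ≫ 𝟙 _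
        rw [pullback.lift_fst_assoc, Category.comp_id] }
  have : CompactSpace T := QuasiCompact.compactSpace_of_compactSpace a
  have : ∀ {j k : Over i} (f : j ⟶ k), IsAffineHom (D₂.map f) := fun f => inferInstance
  have : ∀ k : Over i, CompactSpace (D₂.obj k) := fun k => LimTop61.bcDiagram_compactSpace D a k
  obtain ⟨k, ψ, hk⟩ := Scheme.exists_hom_comp_eq_comp_of_locallyOfFiniteType D₂ t₂ a c₂ hc₂ (i := j) b₁ b₂
    rfl (by
      show pullback.fst a (D.map j.hom) ≫ a = (pullback.snd a (D.map j.hom) ≫ g) ≫ a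
      exact pullback.condition.trans ((congrArg (_ ≫ ·) hg'.symm).trans (Category.assoc _ _ _).symm)) (by
      have e1 : c₂.π.app j ≫ b₁ = pullback.fst a (c.π.app i) := pullback.lift_fst _ _ _
      have e2 : c₂.π.app j ≫ pullback.snd a (D.map j.hom) = pullback.snd a (c.π.app i) ≫ c.π.app j.left :=
        pullback.lift_snd _ _ _
      have e3 : c.π.app j.left ≫ g = s := hgs
      rw [e1, show c₂.π.app j ≫ b₂ = (c₂.π.app j ≫ pullback.snd a (D.map j.hom)) ≫ g from (Category.assoc _ _ _).symm,
        e2]
      exact ((Category.assoc _ _ _).trans ((congrArg (pullback.snd a (c.π.app i) ≫ ·) e3).trans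
        (IsIso.hom_inv_id_assoc _ _))).symm)
  refine ⟨k.left, k.hom, ?_⟩
  let τ : D.obj k.left ⟶ pullback a (D.map k.hom) := pullback.lift (D.map ψ.left ≫ g) (𝟙 _) (by
    rw [Category.id_comp, Category.assoc, hg', ← D.map_comp, Over.w ψ])
  refine ⟨τ, ?_, pullback.lift_snd _ _ _⟩
  have e4 : D₂.map ψ ≫ b₁ = pullback.fst a (D.map k.hom) := pullback.lift_fst _ _ _
  have e5 : D₂.map ψ ≫ pullback.snd a (D.map j.hom) = pullback.snd a (D.map k.hom) ≫ D.map ψ.left :=
    pullback.lift_snd _ _ _
  apply pullback.hom_ext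
  · rw [Category.assoc, pullback.lift_fst, Category.id_comp, ← Category.assoc, ← e5, ← e4]
    exact ((Category.assoc _ _ _).trans hk.symm)
  · rw [Category.assoc, pullback.lift_snd, Category.id_comp]
    exact Category.comp_id _

theorem DescProp.diagonal {H P : MorphismProperty Scheme.{u}} [P.RespectsIso] [H.RespectsIso]
    (hd : DescProp H P) (K : MorphismProperty Scheme.{u})
    (hK : ∀ {X Y : Scheme.{u}} (f : X ⟶ Y), K f → H (pullback.diagonal f))
    (hq : ∀ {X Y : Scheme.{u}} (f : X ⟶ Y), K f → QuasiCompact f → QuasiSeparated f →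
      QuasiSeparated (pullback.diagonal f)) :
    DescProp K P.diagonal := by
  constructor
  intro I _ _ D c hc _ i _ _ T a _ _ ha h
  have hiff : ∀ {Z : Scheme.{u}} (g : Z ⟶ D.obj i), P.diagonal (pullback.snd a g) ↔
      P (pullback.snd (pullback.diagonal a) (pullback.fst (pullback.snd a a ≫ a) g)) := by
    intro Z g
    have h0 : P.diagonal (pullback.snd a g) ↔ P.diagonal (pullback.fst g a) := by
      rw [← pullbackSymmetry_hom_comp_fst]
      exact P.diagonal.cancel_left_of_respectsIso _ _
    let L : pullback a g ⟶ pullback (pullback.snd a a ≫ a) g :=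
      pullback.lift (pullback.fst a g ≫ pullback.diagonal a) (pullback.snd a g)
        (by rw [Category.assoc, pullback.diagonal_snd_assoc, pullback.condition])
    have h1 : P.diagonal (pullback.fst g a) ↔ P L := by
      rw [MorphismProperty.diagonal_iff, diagonal_pullback_fst, P.cancel_left_of_respectsIso,
        P.cancel_right_of_respectsIso]
      exact Iff.rfl
    have hsq : IsPullback (pullback.fst a g) L (pullback.diagonal a) (pullback.fst (pullback.snd a a ≫ a) g) := by
      refine IsPullback.of_bot ?_ ?_ (IsPullback.of_hasPullback (pullback.snd a a ≫ a) g)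
      · have e : L ≫ pullback.snd (pullback.snd a a ≫ a) g = pullback.snd a g := pullback.lift_snd _ _ _
        rw [e, pullback.diagonal_snd_assoc]
        exact IsPullback.of_hasPullback a g
      · exact (pullback.lift_fst _ _ _).symm
    exact h0.trans (h1.trans (prop_iff_of_isPullback hsq))
  have : CompactSpace T := QuasiCompact.compactSpace_of_compactSpace a
  have : QuasiSeparatedSpace T := quasiSeparatedSpace_of_quasiSeparated a
  have : CompactSpace ↥(pullback a a) := QuasiCompact.compactSpace_of_compactSpace (pullback.fst a a)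
  have : QuasiSeparatedSpace ↥(pullback a a) := quasiSeparatedSpace_of_quasiSeparated (pullback.fst a a)
  have := hq a ha inferInstance inferInstance
  obtain ⟨j, φ, hj⟩ := hd.rel D c hc i (pullback.snd a a ≫ a) (pullback.diagonal a) (hK a ha) ((hiff _).mp h)
  exact ⟨j, φ, (hiff _).mpr hj⟩

/-- A morphism whose composite with a morphism locally of finite type is locally of finite
presentation is locally of finite presentation. -/
theorem lfp_of_comp {X Y Z : Scheme.{u}} (f : X ⟶ Y) (g : Y ⟶ Z) [LocallyOfFiniteType g]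
    [LocallyOfFinitePresentation (f ≫ g)] : LocallyOfFinitePresentation f := by
  rw [HasRingHomProperty.iff_exists_appLE (P := @LocallyOfFinitePresentation)
    (RingHom.finitePresentation_stableUnderComposition.stableUnderCompositionWithLocalizationAway
      RingHom.finitePresentation_holdsForLocalizationAway).left]
  intro x
  obtain ⟨W, hW, hgW, -⟩ := Opens.isBasis_iff_nbhd.mp Z.isBasis_affineOpens (Opens.mem_top (g (f x)))
  obtain ⟨V, hV, hfV, eV⟩ := Opens.isBasis_iff_nbhd.mp Y.isBasis_affineOpens (show f x ∈ g ⁻¹ᵁ W from hgW)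
  obtain ⟨U, hU, hxU, eU⟩ := Opens.isBasis_iff_nbhd.mp X.isBasis_affineOpens (show x ∈ f ⁻¹ᵁ V from hfV)
  refine ⟨⟨V, hV⟩, ⟨U, hU⟩, hxU, eU, ?_⟩
  have h1 := HasRingHomProperty.appLE @LocallyOfFinitePresentation (f ≫ g) ‹_› ⟨W, hW⟩ ⟨U, hU⟩
    (eU.trans (Scheme.Hom.preimage_mono f eV))
  rw [← Scheme.Hom.appLE_comp_appLE f g W V U eV eU, CommRingCat.hom_comp] at h1
  exact RingHom.FinitePresentation.of_comp_finiteType _ h1
    (HasRingHomProperty.appLE @LocallyOfFiniteType g ‹_› ⟨W, hW⟩ ⟨V, hV⟩ eV)

theorem lfp_diagonal {X Y : Scheme.{u}} (f : X ⟶ Y) [LocallyOfFiniteType f] :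
    LocallyOfFinitePresentation (pullback.diagonal f) := by
  have : LocallyOfFinitePresentation (pullback.diagonal f ≫ pullback.snd f f) := by
    rw [pullback.diagonal_snd]
    infer_instance
  exact lfp_of_comp (pullback.diagonal f) (pullback.snd f f)

theorem qs_diagonal {X Y : Scheme.{u}} (f : X ⟶ Y) : QuasiSeparated (pullback.diagonal f) :=
  inferInstance

theorem descProp_universallyInjective : DescProp.{u} @LocallyOfFiniteType @UniversallyInjective := by
  have := respectsIso_lfp.{u}
  rw [universallyInjective_eq_diagonal]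
  exact DescProp.diagonal descProp_surjective.{u} @LocallyOfFiniteType (fun f hf => have := hf; lfp_diagonal f)
    fun f _ _ _ => qs_diagonal f

theorem descProp_mono : DescProp @LocallyOfFiniteType (MorphismProperty.monomorphisms Scheme.{u}) := by
  have := respectsIso_lfp.{u}
  rw [← MorphismProperty.diagonal_isomorphisms]
  exact DescProp.diagonal descProp_isIso.{u} @LocallyOfFiniteType (fun f hf => have := hf; lfp_diagonal f)
    fun f _ _ _ => qs_diagonal f

end Groth.Agent.LimDesc62
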