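import Groth.Agent.LimDesc62.Wrap
import Mathlib.AlgebraicGeometry.ZariskisMainTheorem
import Mathlib.AlgebraicGeometry.Morphisms.UniversallyOpen

/-! Descent of quasi-finiteness: at a point along a base change, and to a stage of a limit. -/

set_option autoImplicit false
universe u

open CategoryTheory CategoryTheory.Limits AlgebraicGeometry TopologicalSpace

namespace Groth.Agent.LimDesc62

theorem quasiFiniteAt_fiberι_iff {X Y : Scheme.{u}} (f : X ⟶ Y) [LocallyOfFiniteType f] (y : Y)
    (z : f.fiber y) : f.QuasiFiniteAt (f.fiberι y z) ↔ IsOpen {z} := by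
  have hy : f (f.fiberι y z) = y := by
    have := Set.mem_range_self (f := f.fiberι y) z
    rwa [f.range_fiberι] at this
  rw [Scheme.Hom.quasiFiniteAt_iff_isOpen_singleton_asFiber]
  suffices ∀ x (z : f.fiber y) (_ : f.fiberι y z = x) (_ : f x = y),
      (IsOpen {f.asFiber x} ↔ IsOpen {z}) from this _ z rfl hy
  rintro x z hz rfl
  rw [show f.asFiber x = z from (f.fiberι (f x)).isEmbedding.injective ((f.fiberι_asFiber x).trans hz.symm)]

/-- Quasi-finiteness at a point descends along any base change. -/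
theorem quasiFiniteAt_of_isPullback {P X Y' Y : Scheme.{u}} {fst : P ⟶ X} {snd : P ⟶ Y'} {f : X ⟶ Y}
    {g : Y' ⟶ Y} (h : IsPullback fst snd f g) [LocallyOfFiniteType f] [LocallyOfFiniteType snd]
    {p : P} (hp : snd.QuasiFiniteAt p) : f.QuasiFiniteAt (fst p) := by
  obtain ⟨z', hz'⟩ : p ∈ Set.range (snd.fiberι (snd p)) := by
    rw [snd.range_fiberι]; rfl
  set y' := snd p
  rw [← hz'] at hp ⊢
  rw [quasiFiniteAt_fiberι_iff] at hp
  let m : snd.fiber y' ⟶ f.fiber (g y') := pullback.lift (snd.fiberι y' ≫ fst)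
    (snd.fiberToSpecResidueField y' ≫ Spec.map (g.residueFieldMap y')) (by
      show (pullback.fst _ _ ≫ fst) ≫ f = (pullback.snd _ _ ≫ _) ≫ _
      rw [Category.assoc, Category.assoc, h.w, pullback.condition_assoc,
        Scheme.Hom.SpecMap_residueFieldMap_fromSpecResidueField])
  have hm : IsPullback m (snd.fiberToSpecResidueField y') (f.fiberToSpecResidueField (g y'))
      (Spec.map (g.residueFieldMap y')) := by
    refine IsPullback.of_right ?_ (pullback.lift_snd _ _ _) (IsPullback.of_hasPullback f _)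
    erw [pullback.lift_fst, Scheme.Hom.SpecMap_residueFieldMap_fromSpecResidueField]
    exact (IsPullback.of_hasPullback snd (Y'.fromSpecResidueField y')).paste_horiz h
  have : UniversallyOpen m := MorphismProperty.of_isPullback hm.flip inferInstance
  have h1 := m.isOpenMap _ hp
  rw [Set.image_singleton, ← quasiFiniteAt_fiberι_iff] at h1
  have hmι : m ≫ f.fiberι (g y') = snd.fiberι y' ≫ fst := pullback.lift_fst _ _ _
  rwa [← Scheme.Hom.comp_apply, hmι, Scheme.Hom.comp_apply] at h1

theorem isPullback_lift_mono {W X Y : Scheme.{u}} (ι : W ⟶ X) [Mono ι] (p : Y ⟶ X) (b : Y ⟶ W)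
    (hb : b ≫ ι = p) : IsPullback b (𝟙 Y) ι p :=
  ⟨⟨by rw [hb, Category.id_comp]⟩, ⟨PullbackCone.IsLimit.mk _ (fun s => s.snd)
    (fun s => by rw [← cancel_mono ι, Category.assoc, hb, s.condition]) (fun s => Category.comp_id _)
    (fun s m _ h2 => by rw [← h2]; exact (Category.comp_id _).symm)⟩⟩

theorem descProp_locallyQuasiFinite : DescProp.{u} @LocallyOfFiniteType @LocallyQuasiFinite := by
  constructor
  intro I _ _ D c hc _ i _ _ T a _ _ (ha : LocallyOfFiniteType a) (h : LocallyQuasiFinite _)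
  let W := a.quasiFiniteLocus
  have hW : ∀ x, pullback.fst a (c.π.app i) x ∈ W := fun x =>
    quasiFiniteAt_of_isPullback (IsPullback.of_hasPullback a (c.π.app i))
      ((pullback.snd a (c.π.app i)).quasiFiniteAt x)
  let D₂ := LimTop61.bcDiagram D a
  let c₂ := LimTop61.bcCone D c a (pullback.fst a (c.π.app i)) (pullback.snd a (c.π.app i)) pullback.condition
  have hc₂ : IsLimit c₂ := LimTop61.isLimitBcCone D c hc a _ _ (IsPullback.of_hasPullback _ _)
  have : ∀ {j k : Over i} (f : j ⟶ k), IsAffineHom (D₂.map f) := fun f => inferInstance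
  have : ∀ j : Over i, CompactSpace (D₂.obj j) := fun j => compactSpace_bc D a j
  obtain ⟨k, f, hf⟩ := exists_map_preimage_le_map_preimage D₂ c₂ hc₂ (i := Over.mk (𝟙 i)) (U := ⊤)
    (V := pullback.fst a (D.map (𝟙 i)) ⁻¹ᵁ W) isCompact_univ (by
      intro x _
      show (c₂.π.app (Over.mk (𝟙 i)) ≫ pullback.fst a (D.map (𝟙 i))) x ∈ W
      erw [pullback.lift_fst]
      exact hW x)
  have e : D₂.map f ≫ pullback.fst a (D.map (𝟙 i)) = pullback.fst a (D.map k.hom) := pullback.lift_fst _ _ _
  have hr : Set.range (pullback.fst a (D.map k.hom)) ⊆ Set.range W.ι := by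
    rintro _ ⟨x, rfl⟩
    rw [Scheme.Opens.range_ι, ← e]
    erw [Scheme.Hom.comp_apply]
    exact hf (show x ∈ D₂.map f ⁻¹ᵁ ⊤ from trivial)
  let b := IsOpenImmersion.lift W.ι _ hr
  have hb : b ≫ W.ι = pullback.fst a (D.map k.hom) := IsOpenImmersion.lift_fac _ _ _
  have hWa : LocallyQuasiFinite (W.ι ≫ a) := by
    rw [← Scheme.Hom.quasiFiniteLocus_eq_top_iff, Scheme.Hom.quasiFiniteLocus_comp]
    exact Scheme.Opens.ι_preimage_self W
  have hp := (isPullback_lift_mono W.ι _ b hb).paste_vert (IsPullback.of_hasPullback a (D.map k.hom))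
  rw [Category.id_comp] at hp
  exact ⟨k.left, k.hom, MorphismProperty.of_isPullback hp hWa⟩

set_option backward.isDefEq.respectTransparency.types false in
theorem respectsIso_locallyQuasiFinite :
    MorphismProperty.RespectsIso (@LocallyQuasiFinite : MorphismProperty Scheme.{u}) := inferInstance

end Groth.Agent.LimDesc62
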