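import Groth.Agent.LimDesc62.Wrap
import Mathlib.AlgebraicGeometry.Morphisms.ClosedImmersion
import Mathlib.AlgebraicGeometry.Morphisms.FiniteType

/-! Descent of closed immersions and of separatedness to a stage of a limit. -/

set_option autoImplicit false
universe u

open CategoryTheory CategoryTheory.Limits AlgebraicGeometry TopologicalSpace

namespace Groth.Agent.LimDesc62

theorem surjective_appTop_snd {T U S : Scheme.{u}} (a : T ⟶ S) (g : U ⟶ S)
    [IsAffine T] [IsAffine U] [IsAffine S] (A : Set Γ(T, ⊤))
    (hA : Subring.closure (Set.range a.appTop.hom ∪ A) = ⊤)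
    (h : ∀ t ∈ A, (pullback.fst a g).appTop t ∈ (pullback.snd a g).appTop.hom.range) :
    Function.Surjective (pullback.snd a g).appTop := by
  set R := (pullback.snd a g).appTop.hom.range
  have hpo := isPushout_appTop_of_isPullback (IsPullback.of_hasPullback a g)
  have hfst : ∀ t, (pullback.fst a g).appTop t ∈ R := by
    have hle : Subring.closure (Set.range a.appTop.hom ∪ A) ≤ R.comap (pullback.fst a g).appTop.hom := by
      refine Subring.closure_le.mpr (Set.union_subset ?_ h)
      rintro _ ⟨x, rfl⟩
      exact ⟨g.appTop x, (congr($(hpo.w).hom x)).symm⟩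
    intro t
    exact hle (hA ▸ Subring.mem_top t)
  let inl : Γ(T, ⊤) ⟶ CommRingCat.of R :=
    CommRingCat.ofHom ((pullback.fst a g).appTop.hom.codRestrict R hfst)
  let inr : Γ(U, ⊤) ⟶ CommRingCat.of R :=
    CommRingCat.ofHom ((pullback.snd a g).appTop.hom.codRestrict R fun x => ⟨x, rfl⟩)
  let incl : CommRingCat.of R ⟶ Γ(pullback a g, ⊤) := CommRingCat.ofHom R.subtype
  have hd : hpo.desc inl inr (by ext x; exact congr($(hpo.w).hom x)) ≫ incl = 𝟙 _ := by
    apply hpo.hom_ext
    · rw [hpo.inl_desc_assoc, Category.comp_id]; rfl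
    · rw [hpo.inr_desc_assoc, Category.comp_id]; rfl
  intro y
  obtain ⟨x, hx⟩ := (hpo.desc inl inr (by ext x; exact congr($(hpo.w).hom x)) y).2
  exact ⟨x, hx.trans congr($(hd).hom y)⟩

theorem descProp_isClosedImmersion_aff :
    DescProp ((@LocallyOfFiniteType ⊓ @IsAffineHom) ⊓ targetAff.{u}) @IsClosedImmersion := by
  constructor
  intro I _ _ D c hc _ i _ _ T a _ _ ha (h : IsClosedImmersion _)
  obtain ⟨⟨hlft, haff⟩, hiAff : IsAffine (D.obj i)⟩ := ha
  have : IsAffineHom a := haff
  have : IsAffine T := isAffine_of_isAffineHom a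
  have hft : a.appTop.hom.FiniteType :=
    (HasRingHomProperty.iff_of_isAffine (P := @LocallyOfFiniteType)).mp hlft
  let _ := a.appTop.hom.toAlgebra
  obtain ⟨s, hs⟩ := hft.out
  have hA : Subring.closure (Set.range a.appTop.hom ∪ s) = ⊤ := by
    have := congrArg Subalgebra.toSubring hs
    rw [Algebra.adjoin_eq_ring_closure] at this
    simpa [RingHom.algebraMap_toAlgebra] using this
  have : IsAffineHom (c.π.app i) := isAffineHom_π_app D c hc i
  have : IsAffine c.pt := isAffine_of_isAffineHom (c.π.app i)
  have : IsAffine (((Functor.const I).obj c.pt).obj i) := ‹IsAffine c.pt›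
  have : IsConnected (Over i) := CategoryTheory.isConnected_of_hasTerminal (Over i)
  let D₁ := Over.forget i ⋙ D
  let c₁ : Cone D₁ := c.whisker (Over.forget i)
  have hc₁ : IsLimit c₁ := (Functor.Initial.isLimitWhiskerEquiv (Over.forget i) c).symm hc
  have hDaff : ∀ {m : I} (φ : m ⟶ i), IsAffine (D.obj m) := fun φ => isAffine_of_isAffineHom (D.map φ)
  have : ∀ j : Over i, IsAffine (D₁.obj j) := fun j => hDaff j.hom
  let D₂ := LimTop61.bcDiagram D a
  let c₂ := LimTop61.bcCone D c a (pullback.fst a (c.π.app i)) (pullback.snd a (c.π.app i)) pullback.condition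
  have hc₂ : IsLimit c₂ := LimTop61.isLimitBcCone D c hc a _ _ (IsPullback.of_hasPullback _ _)
  have : ∀ {j k : Over i} (f : j ⟶ k), IsAffineHom (D₂.map f) := fun f => inferInstance
  have : ∀ j : Over i, CompactSpace (D₂.obj j) := fun j => compactSpace_bc D a j
  have key : ∀ t ∈ (s : Set Γ(T, ⊤)), ∃ (j : I) (φ : j ⟶ i),
      (pullback.fst a (D.map φ)).appTop t ∈ (pullback.snd a (D.map φ)).appTop.hom.range := by
    intro t _
    obtain ⟨r, hr⟩ := (IsClosedImmersion.isAffine_surjective_of_isAffine (pullback.snd a (c.π.app i))).2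
      ((pullback.fst a (c.π.app i)).appTop t)
    obtain ⟨j, r', hr'⟩ := exists_appTop_π_eq_of_isAffine_of_isLimit D₁ c₁ hc₁ r
    let x : Γ(D₂.obj j, ⊤) := (pullback.fst a (D.map j.hom)).appTop t - (pullback.snd a (D.map j.hom)).appTop r'
    have e1 : c₂.π.app j ≫ pullback.fst a (D.map j.hom) = pullback.fst a (c.π.app i) := pullback.lift_fst _ _ _
    have e2 : c₂.π.app j ≫ pullback.snd a (D.map j.hom) = pullback.snd a (c.π.app i) ≫ c.π.app j.left :=
      pullback.lift_snd _ _ _
    have hx : (c₂.π.app j).appTop x = 0 := by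
      simp only [x]
      erw [map_sub, sub_eq_zero]
      have h1 := congr($(congrArg Scheme.Hom.appTop e1).hom t)
      have h2 := congr($(congrArg Scheme.Hom.appTop e2).hom r')
      simp only [Scheme.Hom.comp_appTop] at h1 h2
      refine h1.trans (hr.symm.trans ?_)
      rw [← hr']
      exact h2.symm
    obtain ⟨k, ψ, hk⟩ := exists_appTop_map_eq_zero_of_isLimit D₂ c₂ hc₂ x hx
    refine ⟨k.left, k.hom, ?_⟩
    have e3 : D₂.map ψ ≫ pullback.fst a (D.map j.hom) = pullback.fst a (D.map k.hom) := pullback.lift_fst _ _ _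
    have e4 : D₂.map ψ ≫ pullback.snd a (D.map j.hom) = pullback.snd a (D.map k.hom) ≫ D.map ψ.left :=
      pullback.lift_snd _ _ _
    have h1 := congr($(congrArg Scheme.Hom.appTop e3).hom t)
    have h2 := congr($(congrArg Scheme.Hom.appTop e4).hom r')
    simp only [Scheme.Hom.comp_appTop] at h1 h2
    simp only [x] at hk
    erw [map_sub, sub_eq_zero] at hk
    exact ⟨(D.map ψ.left).appTop r', h2.symm.trans (hk.symm.trans h1)⟩
  choose j φ hφ using fun t : s => key t.1 t.2
  obtain ⟨m, ψ, χ, hχ⟩ := DescProp.exists_common φ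
  refine ⟨m, ψ, ?_⟩
  have : IsAffine (D.obj m) := isAffine_of_isAffineHom (D.map ψ)
  refine IsClosedImmersion.of_surjective_of_isAffine _ (surjective_appTop_snd a (D.map ψ) s hA ?_)
  intro t ht
  obtain ⟨y, hy⟩ := hφ ⟨t, ht⟩
  let f : Over.mk ψ ⟶ Over.mk (φ ⟨t, ht⟩) := Over.homMk (χ _) (hχ _)
  have e3 : D₂.map f ≫ pullback.fst a (D.map (φ ⟨t, ht⟩)) = pullback.fst a (D.map ψ) := pullback.lift_fst _ _ _
  have e4 : D₂.map f ≫ pullback.snd a (D.map (φ ⟨t, ht⟩)) = pullback.snd a (D.map ψ) ≫ D.map (χ ⟨t, ht⟩) :=
    pullback.lift_snd _ _ _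
  have h1 := congr($(congrArg Scheme.Hom.appTop e3).hom t)
  have h2 := congr($(congrArg Scheme.Hom.appTop e4).hom y)
  simp only [Scheme.Hom.comp_appTop] at h1 h2
  refine ⟨(D.map (χ ⟨t, ht⟩)).appTop y, h2.symm.trans ?_⟩
  exact (congrArg _ hy).trans h1

set_option backward.isDefEq.respectTransparency.types false in
theorem isStableUnderBaseChange_isAffineHom :
    MorphismProperty.IsStableUnderBaseChange (@IsAffineHom : MorphismProperty Scheme.{u}) := inferInstance

set_option backward.isDefEq.respectTransparency.types false in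
theorem isStableUnderBaseChange_isClosedImmersion :
    MorphismProperty.IsStableUnderBaseChange (@IsClosedImmersion : MorphismProperty Scheme.{u}) := inferInstance

set_option backward.isDefEq.respectTransparency.types false in
theorem isZariskiLocalAtTarget_isClosedImmersion :
    IsZariskiLocalAtTarget (@IsClosedImmersion : MorphismProperty Scheme.{u}) := inferInstance

set_option backward.isDefEq.respectTransparency.types false in
theorem respectsIso_isClosedImmersion :
    MorphismProperty.RespectsIso (@IsClosedImmersion : MorphismProperty Scheme.{u}) := inferInstance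

theorem isStableUnderBaseChange_inf {P Q : MorphismProperty Scheme.{u}} [P.IsStableUnderBaseChange]
    [Q.IsStableUnderBaseChange] : (P ⊓ Q).IsStableUnderBaseChange :=
  ⟨fun h hh => ⟨MorphismProperty.of_isPullback h hh.1, MorphismProperty.of_isPullback h hh.2⟩⟩

theorem descProp_isClosedImmersion : DescProp.{u} @LocallyOfFiniteType @IsClosedImmersion := by
  have := isStableUnderBaseChange_lft.{u}
  have := isStableUnderBaseChange_isAffineHom.{u}
  have := isStableUnderBaseChange_isClosedImmersion.{u}
  have := isZariskiLocalAtTarget_isClosedImmersion.{u}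
  have := isStableUnderBaseChange_inf (P := (@LocallyOfFiniteType : MorphismProperty Scheme.{u})) (Q := @IsAffineHom)
  exact DescProp.of_stage (Q := @IsAffineHom) (fun _ _ f hf => have := hf; inferInstance)
    (descProp_isAffineHom.mono_hyp le_top) (DescProp.of_affine descProp_isClosedImmersion_aff)

theorem isSeparated_eq : (@IsSeparated : MorphismProperty Scheme.{u}) =
    MorphismProperty.diagonal @IsClosedImmersion := IsSeparated.isSeparated_eq_diagonal_isClosedImmersion

theorem descProp_isSeparated : DescProp.{u} @LocallyOfFiniteType @IsSeparated := by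
  have := respectsIso_lft.{u}
  have := respectsIso_isClosedImmersion.{u}
  rw [isSeparated_eq]
  exact DescProp.diagonal descProp_isClosedImmersion.{u} @LocallyOfFiniteType
    (fun f hf => have := hf; inferInstance) fun f _ _ _ => qs_diagonal f

theorem descProp_isSeparated_top : DescProp.{u} ⊤ @IsSeparated := by
  have := respectsIso_lft.{u}
  have := respectsIso_isClosedImmersion.{u}
  rw [isSeparated_eq]
  exact DescProp.diagonal descProp_isClosedImmersion.{u} ⊤
    (fun f _ => inferInstance) fun f _ _ _ => qs_diagonal f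

end Groth.Agent.LimDesc62
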