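import Groth.Agent.LimDesc62.Basic
import Groth.Agent.LimTop61.Descent
import Groth.Agent.FlatMor66.IndQA
import Groth.Prelude.Def_Mor2
import Mathlib.AlgebraicGeometry.Morphisms.Affine
import Mathlib.AlgebraicGeometry.Morphisms.ClosedImmersion

/-! Descent of affine, quasi-affine and closed immersions to a stage of a limit. -/

set_option autoImplicit false
universe u

open CategoryTheory CategoryTheory.Limits AlgebraicGeometry TopologicalSpace

namespace Groth.Agent.LimDesc62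

/-- The target is affine. -/
def targetAff : MorphismProperty Scheme.{u} := fun _ Y _ => IsAffine Y

/-- The source is quasi-affine. -/
def srcQA : MorphismProperty Scheme.{u} := fun X _ _ => Scheme.IsQuasiAffine X

theorem respectsIso_targetAff : (targetAff.{u}).RespectsIso :=
  MorphismProperty.RespectsIso.mk _ (fun _ _ h => h) fun e _ h =>
    haveI : IsAffine _ := h
    IsAffine.of_isIso e.inv

theorem respectsIso_srcQA : (srcQA.{u}).RespectsIso :=
  MorphismProperty.RespectsIso.mk _ (fun e _ h => FlatMor66.qa_congr e h) fun _ _ h => h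

theorem respectsIso_inf {P Q : MorphismProperty Scheme.{u}} [P.RespectsIso] [Q.RespectsIso] :
    (P ⊓ Q).RespectsIso :=
  MorphismProperty.RespectsIso.mk _
    (fun e f h => ⟨(P.cancel_left_of_respectsIso e.hom f).mpr h.1, (Q.cancel_left_of_respectsIso e.hom f).mpr h.2⟩)
    fun e f h => ⟨(P.cancel_right_of_respectsIso f e.hom).mpr h.1, (Q.cancel_right_of_respectsIso f e.hom).mpr h.2⟩

variable {H P Q : MorphismProperty Scheme.{u}}

theorem DescProp.mono_hyp {H' : MorphismProperty Scheme.{u}} (hd : DescProp H P) (h : H' ≤ H) :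
    DescProp H' P :=
  ⟨fun D c hc _ i _ _ _ a _ _ ha => hd.desc D c hc i a (h _ ha)⟩

lemma restrict_isPullback {X Y T : Scheme.{u}} (a : T ⟶ Y) (g : X ⟶ Y) (U : X.Opens) :
    IsPullback ((pullback.snd a g ⁻¹ᵁ U).ι ≫ pullback.fst a g) (pullback.snd a g ∣_ U) a (U.ι ≫ g) :=
  (isPullback_morphismRestrict (pullback.snd a g) U).flip.paste_horiz (IsPullback.of_hasPullback a g)

lemma restrict_base_isPullback {U Y T : Scheme.{u}} (a : T ⟶ Y) (V : Y.Opens) (g : U ⟶ (V : Scheme.{u})) :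
    IsPullback (pullback.fst (a ∣_ V) g ≫ (a ⁻¹ᵁ V).ι) (pullback.snd (a ∣_ V) g) a (g ≫ V.ι) :=
  (IsPullback.of_hasPullback (a ∣_ V) g).paste_horiz (isPullback_morphismRestrict a V).flip

theorem DescProp.of_affine [IsZariskiLocalAtTarget P] [P.IsStableUnderBaseChange]
    [H.IsStableUnderBaseChange] (hd : DescProp (H ⊓ targetAff) P) : DescProp H P := by
  constructor
  intro I _ _ D c hc _ i _ _ T a _ _ ha h
  have := respectsIso_targetAff.{u}
  have := respectsIso_inf (P := H) (Q := targetAff.{u})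
  obtain ⟨s, hs⟩ := (isCompact_univ (X := D.obj i)).elim_finite_subcover
    (fun V : (D.obj i).affineOpens => (V.1 : Set (D.obj i))) (fun V => V.1.2)
    (fun x _ => by
      obtain ⟨_, ⟨V, hV, rfl⟩, hxV, -⟩ := (D.obj i).isBasis_affineOpens.exists_subset_of_mem_open (Set.mem_univ x) isOpen_univ
      exact Set.mem_iUnion.mpr ⟨⟨V, hV⟩, hxV⟩)
  have key : ∀ V : s, ∃ (j : I) (φ : j ⟶ i),
      P (pullback.snd (a ∣_ V.1.1) (pullback.fst V.1.1.ι (D.map φ))) := by
    intro V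
    have : IsAffine (V.1.1 : Scheme.{u}) := V.1.2
    refine hd.rel D c hc i V.1.1.ι (a ∣_ V.1.1)
      ⟨MorphismProperty.of_isPullback (isPullback_morphismRestrict a V.1.1).flip ha, V.1.2⟩ ?_
    rw [prop_iff_of_isPullback (P := P) (restrict_base_isPullback a V.1.1 _)]
    exact prop_snd_of_eq_comp (pullback.snd V.1.1.ι (c.π.app i)) pullback.condition h
  choose j φ hφ using key
  obtain ⟨m, ψ, χ, hχ⟩ := DescProp.exists_common φ
  refine ⟨m, ψ, IsZariskiLocalAtTarget.of_iSup_eq_top (fun V : s => D.map ψ ⁻¹ᵁ V.1.1) ?_ fun V => ?_⟩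
  · refine top_le_iff.mp fun x _ => ?_
    obtain ⟨V, hV, hx⟩ := Set.mem_iUnion₂.mp (hs (Set.mem_univ (D.map ψ x)))
    exact Opens.mem_iSup.mpr ⟨⟨V, hV⟩, hx⟩
  rw [prop_iff_of_isPullback (P := P) (restrict_isPullback a (D.map ψ) _)]
  have h1 := hφ V
  rw [prop_iff_of_isPullback (P := P) (restrict_base_isPullback a V.1.1 _)] at h1
  refine prop_snd_of_eq_comp (pullback.lift (D.map ψ ∣_ V.1.1) ((D.map ψ ⁻¹ᵁ V.1.1).ι ≫ D.map (χ V)) ?_) ?_ h1
  · rw [morphismRestrict_ι, Category.assoc, ← D.map_comp, hχ]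
  · rw [pullback.lift_fst_assoc, morphismRestrict_ι]

theorem DescProp.of_stage (hle : P ≤ Q) [P.IsStableUnderBaseChange] [H.IsStableUnderBaseChange]
    (hQ : DescProp H Q) (hP : DescProp (H ⊓ Q) P) : DescProp H P := by
  constructor
  intro I _ _ D c hc _ i _ _ T a _ _ ha h
  obtain ⟨j, φ, hj⟩ := hQ.desc D c hc i a ha (hle _ h)
  have := LimTop61.compactSpace_of_map D φ
  have := LimTop61.quasiSeparatedSpace_of_map D φ
  have hsq : ∀ {Z : Scheme.{u}} (g : Z ⟶ D.obj j),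
      IsPullback (pullback.fst (pullback.snd a (D.map φ)) g ≫ pullback.fst a (D.map φ))
        (pullback.snd (pullback.snd a (D.map φ)) g) a (g ≫ D.map φ) := fun g =>
    (IsPullback.of_hasPullback _ g).paste_horiz (IsPullback.of_hasPullback a (D.map φ))
  obtain ⟨k, ψ, hk⟩ := hP.desc D c hc j (pullback.snd a (D.map φ))
    ⟨H.pullback_snd _ _ ha, hj⟩ (by
      rw [prop_iff_of_isPullback (P := P) (hsq _), c.w]
      exact h)
  refine ⟨k, ψ ≫ φ, ?_⟩
  rw [prop_iff_of_isPullback (P := P) (hsq _), ← D.map_comp] at hk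
  exact hk

theorem compactSpace_bc {I : Type u} [SmallCategory I] (D : I ⥤ Scheme.{u})
    [∀ (i j : I) (f : i ⟶ j), IsAffineHom (D.map f)] {i : I} [CompactSpace (D.obj i)]
    {T : Scheme.{u}} (a : T ⟶ D.obj i) [QuasiCompact a] (j : Over i) :
    CompactSpace ((LimTop61.bcDiagram D a).obj j) :=
  have : CompactSpace T := QuasiCompact.compactSpace_of_compactSpace a
  LimTop61.bcDiagram_compactSpace D a j

theorem qsSpace_bc {I : Type u} [SmallCategory I] (D : I ⥤ Scheme.{u})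
    [∀ (i j : I) (f : i ⟶ j), IsAffineHom (D.map f)] {i : I} [QuasiSeparatedSpace (D.obj i)]
    {T : Scheme.{u}} (a : T ⟶ D.obj i) [QuasiSeparated a] (j : Over i) :
    QuasiSeparatedSpace ((LimTop61.bcDiagram D a).obj j) :=
  have : QuasiSeparatedSpace T := quasiSeparatedSpace_of_quasiSeparated a
  LimTop61.bcDiagram_quasiSeparatedSpace D a j

theorem descProp_isAffineHom_aff : DescProp (⊤ ⊓ targetAff.{u}) @IsAffineHom := by
  constructor
  intro I _ _ D c hc _ i _ _ T a _ _ ha (h : IsAffineHom _)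
  have : IsAffine (D.obj i) := ha.2
  have : IsAffineHom (c.π.app i) := LimTop61.compactSpace_of_map D (𝟙 i) |> fun _ => isAffineHom_π_app D c hc i
  have : IsAffine c.pt := isAffine_of_isAffineHom (c.π.app i)
  have : IsAffine (((Functor.const I).obj c.pt).obj i) := ‹IsAffine c.pt›
  have : IsAffine (pullback a (c.π.app i)) := isAffine_of_isAffineHom (pullback.snd a (c.π.app i))
  let c₂ := LimTop61.bcCone D c a (pullback.fst a (c.π.app i)) (pullback.snd a (c.π.app i)) pullback.condition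
  have : IsAffine c₂.pt := ‹IsAffine (pullback a (c.π.app i))›
  have := fun j => compactSpace_bc D a j
  have := fun j => qsSpace_bc D a j
  obtain ⟨j, hj⟩ := Scheme.exists_isAffine_of_isLimit (LimTop61.bcDiagram D a) c₂
    (LimTop61.isLimitBcCone D c hc a _ _ (IsPullback.of_hasPullback _ _))
  have : IsAffine (pullback a (D.map j.hom)) := hj
  have : IsAffine (D.obj j.left) := isAffine_of_isAffineHom (D.map j.hom)
  exact ⟨j.left, j.hom, inferInstance⟩

set_option backward.isDefEq.respectTransparency.types false in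
theorem descProp_isAffineHom : DescProp ⊤ (@IsAffineHom : MorphismProperty Scheme.{u}) :=
  DescProp.of_affine descProp_isAffineHom_aff

theorem descProp_srcQA : DescProp (⊤ ⊓ targetAff.{u}) srcQA := by
  constructor
  intro I _ _ D c hc _ i _ _ T a _ _ ha (h : Scheme.IsQuasiAffine _)
  let c₂ := LimTop61.bcCone D c a (pullback.fst a (c.π.app i)) (pullback.snd a (c.π.app i)) pullback.condition
  have : Scheme.IsQuasiAffine c₂.pt := h
  have := fun j => compactSpace_bc D a j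
  have := fun j => qsSpace_bc D a j
  obtain ⟨j, hj⟩ := Scheme.exists_isQuasiAffine_of_isLimit (LimTop61.bcDiagram D a) c₂
    (LimTop61.isLimitBcCone D c hc a _ _ (IsPullback.of_hasPullback _ _))
  exact ⟨j.left, j.hom, hj⟩

theorem isQuasiAffine_of_cover {X Y : Scheme.{u}} (f : X ⟶ Y) [QuasiCompact f] {ι : Type*}
    (U : ι → Y.Opens) (hU : iSup U = ⊤) (h : ∀ k, Scheme.IsQuasiAffine (f ⁻¹ᵁ U k : Scheme.{u})) :
    Mor2.IsQuasiAffine f := by
  refine ⟨inferInstance, fun V hV => ?_⟩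
  have : IsAffine (V : Scheme.{u}) := hV
  have : CompactSpace (f ⁻¹ᵁ V : Scheme.{u}) :=
    FlatMor66.compactSpace_toScheme (QuasiCompact.isCompact_preimage (f := f) _ V.2 hV.isCompact)
  refine FlatMor66.qa_of_basicOpens _ fun x => ?_
  obtain ⟨k, hk⟩ := Opens.mem_iSup.mp ((hU.ge : (⊤ : Y.Opens) ≤ iSup U) (Opens.mem_top (f x.1)))
  obtain ⟨_, ⟨_, ⟨r, rfl⟩, rfl⟩, hxr, hrU⟩ := (isBasis_basicOpen (V : Scheme.{u})).exists_subset_of_mem_open
    (show (f ∣_ V) x ∈ ((V.ι ⁻¹ᵁ U k : Opens _) : Set _) by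
      show V.ι ((f ∣_ V) x) ∈ U k
      rw [← Scheme.Hom.comp_apply, morphismRestrict_ι]; exact hk) (V.ι ⁻¹ᵁ U k).2
  refine ⟨(f ∣_ V).appTop r, by rw [← Scheme.Hom.preimage_basicOpen_top]; exact hxr, ?_⟩
  rw [← Scheme.Hom.preimage_basicOpen_top]
  set W := (f ∣_ V) ⁻¹ᵁ (V : Scheme.{u}).basicOpen r
  have hc : IsCompact (W : Set (f ⁻¹ᵁ V : Scheme.{u})) :=
    QuasiCompact.isCompact_preimage (f := f ∣_ V) _ ((V : Scheme.{u}).basicOpen r).2
      (IsAffineOpen.isCompact ((isAffineOpen_top (V : Scheme.{u})).basicOpen r))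
  have := FlatMor66.compactSpace_toScheme hc
  have hr : Set.range (W.ι ≫ (f ⁻¹ᵁ V).ι) ⊆ Set.range (f ⁻¹ᵁ U k).ι := by
    rintro _ ⟨y, rfl⟩
    rw [Scheme.Opens.range_ι]
    have h2 := hrU (show (f ∣_ V) (W.ι y) ∈ ((V : Scheme.{u}).basicOpen r : Set _) from y.2)
    have h3 : V.ι ((f ∣_ V) (W.ι y)) ∈ U k := h2
    rw [← Scheme.Hom.comp_apply, morphismRestrict_ι] at h3
    exact h3
  have := h k
  exact Scheme.IsQuasiAffine.of_isImmersion (IsOpenImmersion.lift (f ⁻¹ᵁ U k).ι (W.ι ≫ (f ⁻¹ᵁ V).ι) hr)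

theorem descProp_isQuasiAffine : DescProp.{u} ⊤ (fun X Y (f : X ⟶ Y) => Mor2.IsQuasiAffine f) := by
  constructor
  intro I _ _ D c hc _ i _ _ T a _ _ ha h
  have := respectsIso_targetAff.{u}
  have hrs := respectsIso_srcQA.{u}
  have := respectsIso_inf (P := (⊤ : MorphismProperty Scheme.{u})) (Q := targetAff.{u})
  obtain ⟨s, hs⟩ := (isCompact_univ (X := D.obj i)).elim_finite_subcover
    (fun V : (D.obj i).affineOpens => (V.1 : Set (D.obj i))) (fun V => V.1.2)
    (fun x _ => by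
      obtain ⟨_, ⟨V, hV, rfl⟩, hxV, -⟩ := (D.obj i).isBasis_affineOpens.exists_subset_of_mem_open (Set.mem_univ x) isOpen_univ
      exact Set.mem_iUnion.mpr ⟨⟨V, hV⟩, hxV⟩)
  have key : ∀ V : s, ∃ (j : I) (φ : j ⟶ i),
      srcQA (pullback.snd (a ∣_ V.1.1) (pullback.fst V.1.1.ι (D.map φ))) := by
    intro V
    have : IsAffine (V.1.1 : Scheme.{u}) := V.1.2
    refine descProp_srcQA.rel D c hc i V.1.1.ι (a ∣_ V.1.1) ⟨trivial, V.1.2⟩ ?_
    have : IsAffineHom (c.π.app i) := isAffineHom_π_app D c hc i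
    have h1 : Scheme.IsQuasiAffine (pullback.snd a (c.π.app i) ⁻¹ᵁ (c.π.app i ⁻¹ᵁ V.1.1) : Scheme.{u}) :=
      h.2 _ (V.1.2.preimage (c.π.app i))
    let e := (isPullback_morphismRestrict (c.π.app i) V.1.1).isoPullback
    have hp := restrict_base_isPullback a V.1.1 (pullback.fst V.1.1.ι (c.π.app i))
    have hq := restrict_isPullback a (c.π.app i) (c.π.app i ⁻¹ᵁ V.1.1)
    have he : pullback.fst V.1.1.ι (c.π.app i) ≫ V.1.1.ι =
        e.inv ≫ (c.π.app i ⁻¹ᵁ V.1.1).ι ≫ c.π.app i := by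
      rw [pullback.condition, IsPullback.isoPullback_inv_snd_assoc]
    have hp' : IsPullback (pullback.fst _ _ ≫ (a ⁻¹ᵁ V.1.1).ι)
        (pullback.snd (a ∣_ V.1.1) (pullback.fst V.1.1.ι (c.π.app i)) ≫ e.inv) a
        ((c.π.app i ⁻¹ᵁ V.1.1).ι ≫ c.π.app i) :=
      hp.of_iso (Iso.refl _) (Iso.refl _) e.symm (Iso.refl _) (by simp) (by simp) (by simp) (by simp [he])
    exact FlatMor66.qa_congr (hp'.isoPullback ≪≫ hq.isoPullback.symm) h1
  choose j φ hφ using key
  obtain ⟨m, ψ, χ, hχ⟩ := DescProp.exists_common φ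
  refine ⟨m, ψ, isQuasiAffine_of_cover _ (fun V : s => D.map ψ ⁻¹ᵁ V.1.1) ?_ fun V => ?_⟩
  · refine top_le_iff.mp fun x _ => ?_
    obtain ⟨V, hV, hx⟩ := Set.mem_iUnion₂.mp (hs (Set.mem_univ (D.map ψ x)))
    exact Opens.mem_iSup.mpr ⟨⟨V, hV⟩, hx⟩
  let l : (D.map ψ ⁻¹ᵁ V.1.1 : Scheme.{u}) ⟶ pullback V.1.1.ι (D.map (φ V)) :=
    pullback.lift (D.map ψ ∣_ V.1.1) ((D.map ψ ⁻¹ᵁ V.1.1).ι ≫ D.map (χ V))
      (by rw [morphismRestrict_ι, Category.assoc, ← D.map_comp, hχ])
  have hl : IsPullback l (D.map ψ ⁻¹ᵁ V.1.1).ι (pullback.snd V.1.1.ι (D.map (φ V))) (D.map (χ V)) := by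
    refine IsPullback.of_right ?_ (pullback.lift_snd _ _ _) (IsPullback.of_hasPullback V.1.1.ι (D.map (φ V)))
    rw [pullback.lift_fst, ← D.map_comp, hχ]
    exact isPullback_morphismRestrict (D.map ψ) V.1.1
  have : IsAffineHom l := MorphismProperty.of_isPullback hl.flip inferInstance
  have : Scheme.IsQuasiAffine (pullback (pullback.snd (a ∣_ V.1.1) (pullback.fst V.1.1.ι (D.map (φ V)))) l) :=
    have : Scheme.IsQuasiAffine (pullback (a ∣_ V.1.1) (pullback.fst V.1.1.ι (D.map (φ V)))) := hφ V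
    have : IsAffineHom (pullback.fst (pullback.snd (a ∣_ V.1.1) (pullback.fst V.1.1.ι (D.map (φ V)))) l) :=
      MorphismProperty.of_isPullback (IsPullback.of_hasPullback _ l).flip ‹IsAffineHom l›
    Scheme.IsQuasiAffine.of_isAffineHom (pullback.fst _ l)
  have hp := ((IsPullback.of_hasPullback (pullback.snd (a ∣_ V.1.1) (pullback.fst V.1.1.ι (D.map (φ V)))) l).paste_horiz
    (restrict_base_isPullback a V.1.1 (pullback.fst V.1.1.ι (D.map (φ V)))))
  have hq : IsPullback _ _ a ((D.map ψ ⁻¹ᵁ V.1.1).ι ≫ D.map ψ) := restrict_isPullback a (D.map ψ) (D.map ψ ⁻¹ᵁ V.1.1)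
  rw [show l ≫ pullback.fst V.1.1.ι (D.map (φ V)) ≫ V.1.1.ι = (D.map ψ ⁻¹ᵁ V.1.1).ι ≫ D.map ψ by
    rw [← Category.assoc, pullback.lift_fst, morphismRestrict_ι]] at hp
  exact FlatMor66.qa_congr (hq.isoPullback ≪≫ hp.isoPullback.symm) ‹_›

end Groth.Agent.LimDesc62
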