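import Groth.Agent.LimDesc62.Points
import Groth.Agent.LimDesc62.Affine

/-! The shape of descent statements for morphisms of schemes of finite presentation over a stage. -/

set_option autoImplicit false
universe u

open CategoryTheory CategoryTheory.Limits AlgebraicGeometry TopologicalSpace

namespace Groth.Agent.LimDesc62

variable {H P : MorphismProperty Scheme.{u}}

theorem DescProp.wrapFP [P.RespectsIso] [H.RespectsIso] (hd : DescProp H P)
    {I : Type u} [SmallCategory I] [IsCofiltered I] (D : I ⥤ Scheme.{u}) (c : Cone D) (hc : IsLimit c)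
    [∀ (i j : I) (f : i ⟶ j), IsAffineHom (D.map f)] (i₀ : I) [CompactSpace (D.obj i₀)]
    [QuasiSeparatedSpace (D.obj i₀)] {X₀ Y₀ : Scheme.{u}} (f₀ : X₀ ⟶ Y₀) (g₀ : Y₀ ⟶ D.obj i₀)
    [LocallyOfFinitePresentation g₀] [QuasiCompact g₀] [QuasiSeparated g₀]
    [LocallyOfFinitePresentation (f₀ ≫ g₀)] [QuasiCompact (f₀ ≫ g₀)] [QuasiSeparated (f₀ ≫ g₀)]
    (hH : ∀ {U V : Scheme.{u}} (h : U ⟶ V), LocallyOfFinitePresentation h → H h)
    {X Y : Scheme.{u}} (f : X ⟶ Y) (g : Y ⟶ c.pt) (qY : Y ⟶ Y₀) (qX : X ⟶ X₀)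
    (hY : IsPullback qY g g₀ (c.π.app i₀)) (hX : IsPullback qX f f₀ qY) (hf : P f) :
    ∃ (i : I) (φ : i ⟶ i₀) (Xi Yi : Scheme.{u}) (fi : Xi ⟶ Yi) (gi : Yi ⟶ D.obj i) (pY : Yi ⟶ Y₀)
      (pX : Xi ⟶ X₀), IsPullback pY gi g₀ (D.map φ) ∧ IsPullback pX fi f₀ pY ∧ P fi :=
  have : CompactSpace Y₀ := QuasiCompact.compactSpace_of_compactSpace g₀
  have : QuasiSeparatedSpace Y₀ := quasiSeparatedSpace_of_quasiSeparated g₀
  have : QuasiCompact f₀ := QuasiCompact.of_comp f₀ g₀
  have : QuasiSeparated f₀ := QuasiSeparated.of_comp f₀ g₀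
  hd.wrap D c hc i₀ f₀ g₀ (hH _ (lfp_of_comp f₀ g₀)) f g qY qX hY hX hf

theorem respectsIso_top : (⊤ : MorphismProperty Scheme.{u}).RespectsIso :=
  MorphismProperty.RespectsIso.mk _ (fun _ _ _ => trivial) fun _ _ _ => trivial

theorem respectsIso_mor2IsQuasiAffine :
    MorphismProperty.RespectsIso (C := Scheme.{u}) (fun X Y f => Mor2.IsQuasiAffine f) := by
  refine MorphismProperty.RespectsIso.mk _ (fun {X Y Z} e f h => ?_) fun {X Y Z} e f h => ?_
  · obtain ⟨hq, hV⟩ := h
    refine ⟨inferInstance, fun V hV' => ?_⟩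
    exact FlatMor66.qa_congr (Scheme.Hom.preimageIso e.hom (f ⁻¹ᵁ V)) (hV V hV') 
  · obtain ⟨hq, hV⟩ := h
    refine ⟨inferInstance, fun V hV' => ?_⟩
    exact hV (e.hom ⁻¹ᵁ V) (hV'.preimage e.hom)

set_option backward.isDefEq.respectTransparency.types false in
theorem respectsIso_universallyInjective :
    MorphismProperty.RespectsIso (@UniversallyInjective : MorphismProperty Scheme.{u}) := inferInstance

set_option backward.isDefEq.respectTransparency.types false in
theorem respectsIso_isAffineHom :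
    MorphismProperty.RespectsIso (@IsAffineHom : MorphismProperty Scheme.{u}) := inferInstance

end Groth.Agent.LimDesc62
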