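import Groth.Agent.LimTop61.BaseChange
import Mathlib.AlgebraicGeometry.Morphisms.FinitePresentation
import Mathlib.AlgebraicGeometry.Morphisms.QuasiSeparated

/-! Descending properties of morphisms to a stage of a limit: the framework. -/

set_option autoImplicit false
universe u

open CategoryTheory CategoryTheory.Limits AlgebraicGeometry TopologicalSpace

namespace Groth.Agent.LimDesc62

variable {P : MorphismProperty Scheme.{u}}

lemma prop_iff_of_isPullback [P.RespectsIso] {W X Y Z : Scheme.{u}} {p : W ⟶ X} {q : W ⟶ Y}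
    {a : X ⟶ Z} {b : Y ⟶ Z} (h : IsPullback p q a b) : P q ↔ P (pullback.snd a b) := by
  rw [← h.isoPullback_hom_snd]
  exact P.cancel_left_of_respectsIso _ _

lemma prop_snd_of_eq_comp [P.IsStableUnderBaseChange] {T U U' S : Scheme.{u}} {a : T ⟶ S}
    {b : U ⟶ S} (m : U' ⟶ U) {b' : U' ⟶ S} (hb : b' = m ≫ b)
    (h : P (pullback.snd a b)) : P (pullback.snd a b') := by
  subst hb
  refine (prop_iff_of_isPullback
    ((IsPullback.of_hasPullback (pullback.snd a b) m).paste_horiz (IsPullback.of_hasPullback a b))).mp ?_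
  exact P.pullback_snd _ _ h

lemma prop_snd_comp_isIso_iff [P.RespectsIso] {T U S S' : Scheme.{u}} (a : T ⟶ S) (b : U ⟶ S)
    (e : S ⟶ S') [IsIso e] : P (pullback.snd (a ≫ e) (b ≫ e)) ↔ P (pullback.snd a b) :=
  (prop_iff_of_isPullback (show IsPullback (pullback.fst a b) (pullback.snd a b) (a ≫ e) (b ≫ e) from
    (IsPullback.of_hasPullback a b).of_iso (Iso.refl _) (Iso.refl _) (Iso.refl _)
      (asIso e) (by simp) (by simp) (by simp) (by simp))).symm

/-- `P` descends to a stage for morphisms satisfying `H` over limits of schemes. -/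
structure DescProp (H P : MorphismProperty Scheme.{u}) : Prop where
  desc : ∀ {I : Type u} [SmallCategory I] [IsCofiltered I] (D : I ⥤ Scheme.{u}) (c : Cone D)
    (_ : IsLimit c) [∀ (i j : I) (f : i ⟶ j), IsAffineHom (D.map f)] (i : I)
    [CompactSpace (D.obj i)] [QuasiSeparatedSpace (D.obj i)]
    {T : Scheme.{u}} (a : T ⟶ D.obj i) [QuasiCompact a] [QuasiSeparated a],
    H a → P (pullback.snd a (c.π.app i)) →
      ∃ (j : I) (φ : j ⟶ i), P (pullback.snd a (D.map φ))

set_option backward.isDefEq.respectTransparency.types false in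
theorem isZariskiLocalAtTarget_lfp :
    IsZariskiLocalAtTarget (@LocallyOfFinitePresentation : MorphismProperty Scheme.{u}) := inferInstance

set_option backward.isDefEq.respectTransparency.types false in
theorem isZariskiLocalAtSource_lfp :
    IsZariskiLocalAtSource (@LocallyOfFinitePresentation : MorphismProperty Scheme.{u}) := inferInstance

set_option backward.isDefEq.respectTransparency.types false in
theorem isZariskiLocalAtTarget_lft :
    IsZariskiLocalAtTarget (@LocallyOfFiniteType : MorphismProperty Scheme.{u}) := inferInstance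

set_option backward.isDefEq.respectTransparency.types false in
theorem isStableUnderBaseChange_lfp :
    MorphismProperty.IsStableUnderBaseChange (@LocallyOfFinitePresentation : MorphismProperty Scheme.{u}) := inferInstance

set_option backward.isDefEq.respectTransparency.types false in
theorem isStableUnderBaseChange_lft :
    MorphismProperty.IsStableUnderBaseChange (@LocallyOfFiniteType : MorphismProperty Scheme.{u}) := inferInstance

theorem respectsIso_lfp :
    MorphismProperty.RespectsIso (@LocallyOfFinitePresentation : MorphismProperty Scheme.{u}) :=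
  have := isStableUnderBaseChange_lfp.{u}; MorphismProperty.IsStableUnderBaseChange.respectsIso

theorem respectsIso_lft :
    MorphismProperty.RespectsIso (@LocallyOfFiniteType : MorphismProperty Scheme.{u}) :=
  have := isStableUnderBaseChange_lft.{u}; MorphismProperty.IsStableUnderBaseChange.respectsIso

namespace DescProp

variable {H Q : MorphismProperty Scheme.{u}}

section

variable {I : Type u} [SmallCategory I] (D : I ⥤ Scheme.{u}) {i : I} {T : Scheme.{u}} (a : T ⟶ D.obj i)

lemma snd_map [P.IsStableUnderBaseChange] {j k : I} (φ : j ⟶ i) (ψ : k ⟶ j)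
    (h : P (pullback.snd a (D.map φ))) : P (pullback.snd a (D.map (ψ ≫ φ))) :=
  prop_snd_of_eq_comp (D.map ψ) (D.map_comp ψ φ) h

end

lemma exists_common {I : Type u} [SmallCategory I] [IsCofiltered I] {i : I} {J : Type*} [Finite J]
    {j : J → I} (φ : ∀ k, j k ⟶ i) :
    ∃ (m : I) (ψ : m ⟶ i) (χ : ∀ k, m ⟶ j k), ∀ k, χ k ≫ φ k = ψ := by
  classical
  cases nonempty_fintype J
  suffices ∀ s : Finset J, ∃ (m : I) (ψ : m ⟶ i), ∀ k ∈ s, ∃ χ : m ⟶ j k, χ ≫ φ k = ψ by
    obtain ⟨m, ψ, h⟩ := this Finset.univ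
    choose χ hχ using fun k => h k (Finset.mem_univ k)
    exact ⟨m, ψ, χ, hχ⟩
  intro s
  induction s using Finset.induction with
  | empty => exact ⟨i, 𝟙 i, by simp⟩
  | insert k s hk ih =>
    obtain ⟨m, ψ, h⟩ := ih
    obtain ⟨n, u, v, e⟩ := IsCofiltered.cospan ψ (φ k)
    refine ⟨n, u ≫ ψ, fun l hl => ?_⟩
    rcases Finset.mem_insert.mp hl with rfl | hl
    · exact ⟨v, e.symm⟩
    · obtain ⟨χ, hχ⟩ := h l hl
      exact ⟨u ≫ χ, by rw [Category.assoc, hχ]⟩

/-- Descent for a morphism defined over a scheme `U` over a stage. -/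
theorem rel [P.RespectsIso] [H.RespectsIso] (hd : DescProp H P)
    {I : Type u} [SmallCategory I] [IsCofiltered I] (D : I ⥤ Scheme.{u}) (c : Cone D) (hc : IsLimit c)
    [∀ (i j : I) (f : i ⟶ j), IsAffineHom (D.map f)] (i : I)
    {U T : Scheme.{u}} [CompactSpace U] [QuasiSeparatedSpace U] (g : U ⟶ D.obj i) (a : T ⟶ U)
    [QuasiCompact a] [QuasiSeparated a] (ha : H a)
    (h : P (pullback.snd a (pullback.fst g (c.π.app i)))) :
    ∃ (j : I) (φ : j ⟶ i), P (pullback.snd a (pullback.fst g (D.map φ))) := by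
  let r : Over i := Over.mk (𝟙 i)
  have : IsIso (D.map r.hom) := by show IsIso (D.map (𝟙 i)); infer_instance
  let e : (LimTop61.bcDiagram D g).obj r ⟶ U := pullback.fst g (D.map r.hom)
  have : IsIso e := inferInstanceAs (IsIso (pullback.fst g (D.map r.hom)))
  have hH : H (a ≫ inv e) := (H.cancel_right_of_respectsIso a (inv e)).mpr ha
  let qc := LimTop61.bcCone D c g (pullback.fst g (c.π.app i)) (pullback.snd g (c.π.app i)) pullback.condition
  have hlim : IsLimit qc :=
    LimTop61.isLimitBcCone D c hc g _ _ (IsPullback.of_hasPullback g (c.π.app i))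
  have e1 : qc.π.app r ≫ e = pullback.fst g (c.π.app i) := pullback.lift_fst _ _ _
  have h' : P (pullback.snd (a ≫ inv e) (qc.π.app r)) := by
    rw [← prop_snd_comp_isIso_iff (P := P) _ _ e, Category.assoc, IsIso.inv_hom_id, Category.comp_id, e1]
    exact h
  obtain ⟨j, f, hj⟩ := hd.desc (LimTop61.bcDiagram D g) qc hlim r (a ≫ inv e) hH h'
  refine ⟨j.left, j.hom, ?_⟩
  rw [← prop_snd_comp_isIso_iff (P := P) _ _ e, Category.assoc, IsIso.inv_hom_id, Category.comp_id] at hj
  have e2 : (LimTop61.bcDiagram D g).map f ≫ e = pullback.fst g (D.map j.hom) := pullback.lift_fst _ _ _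
  rw [e2] at hj
  exact hj

/-- The shape of the statements about morphisms of schemes of finite presentation over a stage. -/
theorem wrap [P.RespectsIso] [H.RespectsIso] (hd : DescProp H P)
    {I : Type u} [SmallCategory I] [IsCofiltered I] (D : I ⥤ Scheme.{u}) (c : Cone D) (hc : IsLimit c)
    [∀ (i j : I) (f : i ⟶ j), IsAffineHom (D.map f)] (i₀ : I)
    {X₀ Y₀ : Scheme.{u}} [CompactSpace Y₀] [QuasiSeparatedSpace Y₀] (f₀ : X₀ ⟶ Y₀) (g₀ : Y₀ ⟶ D.obj i₀)
    [QuasiCompact f₀] [QuasiSeparated f₀] (hH : H f₀)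
    {X Y : Scheme.{u}} (f : X ⟶ Y) (g : Y ⟶ c.pt) (qY : Y ⟶ Y₀) (qX : X ⟶ X₀)
    (hY : IsPullback qY g g₀ (c.π.app i₀)) (hX : IsPullback qX f f₀ qY) (hf : P f) :
    ∃ (i : I) (φ : i ⟶ i₀) (Xi Yi : Scheme.{u}) (fi : Xi ⟶ Yi) (gi : Yi ⟶ D.obj i) (pY : Yi ⟶ Y₀)
      (pX : Xi ⟶ X₀), IsPullback pY gi g₀ (D.map φ) ∧ IsPullback pX fi f₀ pY ∧ P fi := by
  have hX' : IsPullback qX (f ≫ hY.isoPullback.hom) f₀ (pullback.fst g₀ (c.π.app i₀)) :=
    hX.of_iso (Iso.refl _) (Iso.refl _) hY.isoPullback (Iso.refl _) (by simp) (by simp) (by simp) (by simp)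
  have h : P (pullback.snd f₀ (pullback.fst g₀ (c.π.app i₀))) :=
    (prop_iff_of_isPullback hX').mp ((P.cancel_right_of_respectsIso f _).mpr hf)
  obtain ⟨j, φ, hj⟩ := hd.rel D c hc i₀ g₀ f₀ hH h
  exact ⟨j, φ, _, _, pullback.snd f₀ (pullback.fst g₀ (D.map φ)), pullback.snd g₀ (D.map φ),
    pullback.fst g₀ (D.map φ), pullback.fst f₀ _, IsPullback.of_hasPullback _ _, IsPullback.of_hasPullback _ _, hj⟩

theorem quasiCompact_of_comp_hyp {X₀ Y₀ S : Scheme.{u}} (f₀ : X₀ ⟶ Y₀) (g₀ : Y₀ ⟶ S)
    [QuasiCompact (f₀ ≫ g₀)] [QuasiSeparated g₀] : QuasiCompact f₀ :=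
  QuasiCompact.of_comp f₀ g₀

end DescProp

end Groth.Agent.LimDesc62
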