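import Groth.Agent.LimDesc62.ClosedImm
import Mathlib.AlgebraicGeometry.Morphisms.Immersion

/-! Descent of open immersions and immersions to a stage of a limit. -/

set_option autoImplicit false
universe u

open CategoryTheory CategoryTheory.Limits AlgebraicGeometry TopologicalSpace

namespace Groth.Agent.LimDesc62

variable {H Q : MorphismProperty Scheme.{u}}

/-- If the base change to the limit factors through a quasi-compact open with the first factor
satisfying a descending property, then so does the base change to some stage. -/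
theorem exists_factor_open [H.IsStableUnderBaseChange] [Q.RespectsIso] (hd : DescProp H Q)
    (hcancel : ∀ {X Y Z : Scheme.{u}} (b : X ⟶ Y) (m : Y ⟶ Z), IsOpenImmersion m → H (b ≫ m) → H b)
    {I : Type u} [SmallCategory I] [IsCofiltered I] (D : I ⥤ Scheme.{u}) (c : Cone D) (hc : IsLimit c)
    [∀ (i j : I) (f : i ⟶ j), IsAffineHom (D.map f)] (i : I)
    [CompactSpace (D.obj i)] [QuasiSeparatedSpace (D.obj i)]
    {T : Scheme.{u}} (a : T ⟶ D.obj i) [QuasiCompact a] [QuasiSeparated a] (ha : H a)
    (U : c.pt.Opens) (hU : IsCompact (U : Set c.pt))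
    (hrange : Set.range (pullback.snd a (c.π.app i)) ⊆ (U : Set c.pt))
    (hQ : ∀ {W : Scheme.{u}} (q : pullback a (c.π.app i) ⟶ W) (m : W ⟶ c.pt), IsOpenImmersion m →
      q ≫ m = pullback.snd a (c.π.app i) → Set.range m = U → Q q) :
    ∃ (j : I) (φ : j ⟶ i) (W : Scheme.{u}) (q : pullback a (D.map φ) ⟶ W) (m : W ⟶ D.obj j),
      IsOpenImmersion m ∧ Q q ∧ q ≫ m = pullback.snd a (D.map φ) := by
  obtain ⟨k₀, φ₀, V, hV, hVU⟩ := LimTop61.exists_preimage_eq_over D c hc i U hU
  let D₂ := LimTop61.bcDiagram D a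
  let c₂ := LimTop61.bcCone D c a (pullback.fst a (c.π.app i)) (pullback.snd a (c.π.app i)) pullback.condition
  have hc₂ : IsLimit c₂ := LimTop61.isLimitBcCone D c hc a _ _ (IsPullback.of_hasPullback _ _)
  have : ∀ {j k : Over i} (f : j ⟶ k), IsAffineHom (D₂.map f) := fun f => inferInstance
  have : ∀ j : Over i, CompactSpace (D₂.obj j) := fun j => compactSpace_bc D a j
  obtain ⟨k, f, hf⟩ := exists_map_preimage_le_map_preimage D₂ c₂ hc₂ (i := Over.mk φ₀) (U := ⊤)
    (V := pullback.snd a (D.map φ₀) ⁻¹ᵁ V) isCompact_univ (by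
      intro x _
      show (c₂.π.app (Over.mk φ₀) ≫ pullback.snd a (D.map φ₀)) x ∈ V
      erw [show c₂.π.app (Over.mk φ₀) ≫ pullback.snd a (D.map φ₀) = pullback.snd a (c.π.app i) ≫ c.π.app k₀
        from pullback.lift_snd _ _ _, Scheme.Hom.comp_apply]
      have := hrange ⟨x, rfl⟩
      rw [← hVU] at this
      exact this)
  have e : D₂.map f ≫ pullback.snd a (D.map φ₀) = pullback.snd a (D.map k.hom) ≫ D.map f.left :=
    pullback.lift_snd _ _ _
  set Vk := D.map f.left ⁻¹ᵁ V with hVk
  have hr : Set.range (pullback.snd a (D.map k.hom)) ⊆ Set.range Vk.ι := by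
    rintro _ ⟨x, rfl⟩
    rw [Scheme.Opens.range_ι]
    show D.map f.left (pullback.snd a (D.map k.hom) x) ∈ V
    rw [← Scheme.Hom.comp_apply, ← e]
    exact hf (show x ∈ D₂.map f ⁻¹ᵁ ⊤ from trivial)
  let b := IsOpenImmersion.lift Vk.ι _ hr
  have hb : b ≫ Vk.ι = pullback.snd a (D.map k.hom) := IsOpenImmersion.lift_fac _ _ _
  have := LimTop61.compactSpace_of_map D k.hom
  have := LimTop61.quasiSeparatedSpace_of_map D k.hom
  have : CompactSpace (Vk : Scheme.{u}) :=
    FlatMor66.compactSpace_toScheme (LimTop61.isCompact_preimage_map D f.left hV)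
  have : QuasiSeparatedSpace (Vk : Scheme.{u}) := quasiSeparatedSpace_of_quasiSeparated Vk.ι
  have : QuasiCompact (b ≫ Vk.ι) := by rw [hb]; infer_instance
  have : QuasiSeparated (b ≫ Vk.ι) := by rw [hb]; infer_instance
  have : QuasiCompact b := QuasiCompact.of_comp b Vk.ι
  have : QuasiSeparated b := QuasiSeparated.of_comp b Vk.ι
  have hHb : H b := hcancel b Vk.ι inferInstance (hb ▸ H.pullback_snd _ _ ha)
  have := MorphismProperty.IsStableUnderBaseChange.respectsIso (P := H)
  have hsq : ∀ {Z : Scheme.{u}} (g : Z ⟶ D.obj k.left),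
      IsPullback (pullback.fst b (pullback.fst Vk.ι g) ≫ pullback.fst a (D.map k.hom))
        (pullback.snd b (pullback.fst Vk.ι g) ≫ pullback.snd Vk.ι g) a (g ≫ D.map k.hom) := fun g => by
    have := (IsPullback.of_hasPullback b (pullback.fst Vk.ι g)).paste_vert (IsPullback.of_hasPullback Vk.ι g)
    rw [hb] at this
    exact this.paste_horiz (IsPullback.of_hasPullback a (D.map k.hom))
  obtain ⟨l, ψ, hl⟩ := hd.rel D c hc k.left Vk.ι b hHb (by
    let E := (hsq (c.π.app k.left)).isoPullback ≪≫
      pullback.congrHom rfl (c.w k.hom : c.π.app k.left ≫ D.map k.hom = c.π.app i)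
    refine (Q.cancel_left_of_respectsIso E.inv _).mp
      (hQ _ (pullback.snd Vk.ι (c.π.app k.left)) inferInstance ?_ ?_)
    · rw [Category.assoc, Iso.inv_comp_eq]
      simp only [E, Iso.trans_hom, pullback.congrHom_hom, Category.assoc]
      erw [pullback.lift_snd, Category.comp_id]
      exact (IsPullback.isoPullback_hom_snd _).symm
    · rw [Scheme.Pullback.range_snd, Scheme.Opens.range_ι, ← hVU]
      ext x
      show D.map f.left (c.π.app k.left x) ∈ V ↔ c.π.app k₀ x ∈ V
      rw [← Scheme.Hom.comp_apply, c.w]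
      rfl)
  let E := (hsq (D.map ψ)).isoPullback ≪≫ pullback.congrHom rfl (D.map_comp ψ k.hom).symm
  refine ⟨l, ψ ≫ k.hom, _, E.inv ≫ pullback.snd b (pullback.fst Vk.ι (D.map ψ)),
    pullback.snd Vk.ι (D.map ψ), inferInstance, (Q.cancel_left_of_respectsIso E.inv _).mpr hl, ?_⟩
  rw [Category.assoc, Iso.inv_comp_eq]
  simp only [E, Iso.trans_hom, pullback.congrHom_hom, Category.assoc]
  erw [pullback.lift_snd, Category.comp_id]
  exact (IsPullback.isoPullback_hom_snd _).symm

theorem descProp_isOpenImmersion : DescProp.{u} @LocallyOfFinitePresentation @IsOpenImmersion := by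
  constructor
  intro I _ _ D c hc _ i _ _ T a _ _ ha (h : IsOpenImmersion _)
  have := isStableUnderBaseChange_lfp.{u}
  let U : c.pt.Opens := (pullback.snd a (c.π.app i)).opensRange
  have : CompactSpace c.pt := LimTop61.compactSpace_pt D c hc i
  have : CompactSpace ↥(((Functor.const I).obj c.pt).obj i) := ‹CompactSpace c.pt›
  have : CompactSpace ↥(pullback a (c.π.app i)) :=
    QuasiCompact.compactSpace_of_compactSpace (pullback.snd a (c.π.app i))
  obtain ⟨j, φ, W, q, m, hm, hq, hqm⟩ := exists_factor_open descProp_isIso.{u}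
    (fun b m hm hbm => have := hm; have := hbm; lfp_of_comp b m) D c hc i a ha U
    (isCompact_range (pullback.snd a (c.π.app i)).continuous) subset_rfl (by
      intro W q m hm hqm hr
      have : IsOpenImmersion (q ≫ m) := hqm ▸ h
      have : IsOpenImmersion q := IsOpenImmersion.of_comp q m
      refine (isIso_iff_isOpenImmersion_and_surjective q).mpr ⟨inferInstance, ⟨fun y => ?_⟩⟩
      obtain ⟨x, hx⟩ := (hr ▸ Set.mem_range_self y : m y ∈ (U : Set c.pt))
      refine ⟨x, m.isOpenEmbedding.injective ?_⟩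
      rw [← Scheme.Hom.comp_apply, hqm]
      exact hx)
  refine ⟨j, φ, ?_⟩
  have : IsIso q := hq
  rw [← hqm]
  exact inferInstanceAs (IsOpenImmersion (q ≫ m))

theorem exists_compact_open_of_isLocallyClosed {X : Scheme.{u}} {Z : Set X} (hc : IsCompact Z)
    (hZ : IsLocallyClosed Z) : ∃ U : X.Opens, IsCompact (U : Set X) ∧ Z ⊆ U ∧ (U : Set X) ∩ closure Z ⊆ Z := by
  obtain ⟨O, F, hO, hF, rfl⟩ := hZ
  obtain ⟨s, hs⟩ := hc.elim_finite_subcover
    (fun V : {V : X.affineOpens // (V.1 : Set X) ⊆ O} => (V.1.1 : Set X)) (fun V => V.1.1.2)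
    (fun x hx => by
      obtain ⟨_, ⟨V, hV, rfl⟩, hxV, hVO⟩ := X.isBasis_affineOpens.exists_subset_of_mem_open hx.1 hO
      exact Set.mem_iUnion.mpr ⟨⟨⟨V, hV⟩, hVO⟩, hxV⟩)
  refine ⟨⟨⋃ V ∈ s, (V.1.1 : Set X), isOpen_biUnion fun V _ => V.1.1.2⟩,
    s.isCompact_biUnion fun V _ => V.1.2.isCompact, hs, fun x ⟨hx, hxc⟩ => ?_⟩
  obtain ⟨V, _, hxV⟩ := Set.mem_iUnion₂.mp hx
  exact ⟨V.2 hxV, closure_minimal Set.inter_subset_right hF hxc⟩

theorem descProp_isImmersion : DescProp.{u} @LocallyOfFiniteType @IsImmersion := by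
  constructor
  intro I _ _ D c hc _ i _ _ T a _ _ ha (h : IsImmersion _)
  have := isStableUnderBaseChange_lft.{u}
  have := respectsIso_isClosedImmersion.{u}
  set s := pullback.snd a (c.π.app i)
  have : CompactSpace c.pt := LimTop61.compactSpace_pt D c hc i
  have : CompactSpace ↥(((Functor.const I).obj c.pt).obj i) := ‹CompactSpace c.pt›
  have : CompactSpace ↥(pullback a (c.π.app i)) := QuasiCompact.compactSpace_of_compactSpace s
  obtain ⟨U, hU, hsU, hclo⟩ :=
    exists_compact_open_of_isLocallyClosed (isCompact_range s.continuous) s.isLocallyClosed_range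
  obtain ⟨j, φ, W, q, m, hm, hq, hqm⟩ := exists_factor_open descProp_isClosedImmersion.{u}
    (fun b m hm hbm => have := hm; have := hbm; locallyOfFiniteType_of_comp b m) D c hc i a ha U hU hsU (by
      intro W q m hm hqm hr
      have : IsImmersion (q ≫ m) := hqm ▸ h
      have : IsImmersion q := IsImmersion.of_comp q m
      refine IsClosedImmersion.of_isPreimmersion q ?_
      have : Set.range q = m ⁻¹' closure (Set.range s) := by
        refine subset_antisymm ?_ ?_
        · rintro _ ⟨x, rfl⟩
          exact subset_closure ⟨x, by rw [← Scheme.Hom.comp_apply, hqm]⟩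
        · intro y hy
          obtain ⟨x, hx⟩ := hclo ⟨hr ▸ Set.mem_range_self y, hy⟩
          refine ⟨x, m.isOpenEmbedding.injective ?_⟩
          rw [← Scheme.Hom.comp_apply, hqm]
          exact hx
      rw [this]
      exact isClosed_closure.preimage m.continuous)
  refine ⟨j, φ, ?_⟩
  have : IsClosedImmersion q := hq
  rw [← hqm]
  exact inferInstanceAs (IsImmersion (q ≫ m))

end Groth.Agent.LimDesc62

namespace Groth.Agent.LimDesc62

set_option backward.isDefEq.respectTransparency.types false in
theorem respectsIso_isOpenImmersion :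
    MorphismProperty.RespectsIso (@IsOpenImmersion : MorphismProperty Scheme.{u}) := inferInstance

set_option backward.isDefEq.respectTransparency.types false in
theorem respectsIso_isImmersion :
    MorphismProperty.RespectsIso (@IsImmersion : MorphismProperty Scheme.{u}) := inferInstance

set_option backward.isDefEq.respectTransparency.types false in
theorem respectsIso_isSeparated :
    MorphismProperty.RespectsIso (@IsSeparated : MorphismProperty Scheme.{u}) := inferInstance

end Groth.Agent.LimDesc62
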